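import Cfsg.Agent.OddHalf.D8.Sheet
set_option linter.all false

/-!
# ODD half, D8: the sheet of type (E) without the `y`-trick (helper826)

Used for `J₂`: there the conjugates of `z` in `P` lie in `R`. The fields are those of `Sheet.SheetE` except `ytrick`.
-/

set_option autoImplicit false

namespace Cfsg.Agent.OddHalf.D8.JTwo.Sheet

open Subgroup Cfsg.Agent.OddHalf.D8.Sheet

/-- the sheet of type (E) without the `y`-trick -/
structure SheetX {K : Type*} [Group K] (z : K) (P R : Subgroup K) : Prop where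
  zz : z * z = 1
  z1 : z ≠ 1
  /-- `z` is 2-central and `Z(S) = ⟨z⟩` -/
  syl : ∃ S : Sylow 2 K, z ∈ S ∧ (∀ x ∈ S, x * z = z * x) ∧
    ∀ y ∈ S, (∀ x ∈ S, x * y = y * x) → y = 1 ∨ y = z
  /-- `P` is the last term of the derived series of `C_K(z)` -/
  cen : ∀ x ∈ P, x * z = z * x
  perf : ⁅P, P⁆ = P
  der : ∃ m, TR.dser m (centralizer ({z} : Set K)) ≤ P
  /-- `|Out(K)|₂ ≤ 2` -/
  out : ¬ 4 ∣ (MulAut.conj : K →* MulAut K).range.index
  /-- perfect groups of automorphisms are inner (Schreier) -/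
  schreier : ∃ n, TR.dser n (⊤ : Subgroup (MulAut K)) ≤ (MulAut.conj : K →* MulAut K).range
  zR : z ∈ R
  RP : R ≤ P
  R2 : IsPGroup 2 R
  Rn : ∀ x ∈ P, ∀ r ∈ R, x * r * x⁻¹ ∈ R
  /-- `R = O₂(P)` -/
  Rmax : ∀ B : Subgroup K, B ≤ P → IsPGroup 2 B → (∀ x ∈ P, ∀ b ∈ B, x * b * x⁻¹ ∈ B) → B ≤ R
  /-- `R/⟨z⟩` is irreducible -/
  Rmin : ∀ B : Subgroup K, B ≤ R → (∀ x ∈ P, ∀ b ∈ B, x * b * x⁻¹ ∈ B) →
    (∀ b ∈ B, b = 1 ∨ b = z) ∨ B = R
  Rna : ∃ a ∈ R, ∃ b ∈ R, a * b ≠ b * a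
  /-- `C_P(R) ≤ R` -/
  cR : ∀ x ∈ P, (∀ r ∈ R, x * r = r * x) → x ∈ R
  /-- automorphisms of `K` of 2-power order fixing `z` and trivial on `P/R` are inner, from `R` -/
  aut : ∀ α : MulAut K, IsPGroup 2 (zpowers α) → α z = z → (∀ x ∈ P, x⁻¹ * α x ∈ R) →
    ∃ r ∈ R, α = MulAut.conj r

variable {K : Type*} [Group K] {z : K} {P R : Subgroup K}

theorem of_sheetE (h : SheetE z P R) : SheetX z P R where
  zz := h.zz
  z1 := h.z1
  syl := h.syl
  cen := h.cen
  perf := h.perf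
  der := h.der
  out := h.out
  schreier := h.schreier
  zR := h.zR
  RP := h.RP
  R2 := h.R2
  Rn := h.Rn
  Rmax := h.Rmax
  Rmin := h.Rmin
  Rna := h.Rna
  cR := h.cR
  aut := h.aut

namespace SheetX

theorem zP (h : SheetX z P R) : z ∈ P := h.RP h.zR

/-- `R` is normal in `C_K(z)` and lies in every Sylow subgroup centralising `z` -/
theorem R_le_sylow [Finite K] (h : SheetX z P R) (S : Sylow 2 K) (hS : ∀ x ∈ S, x * z = z * x) :
    R ≤ S := by
  have hn : ∀ c : K, c * z = z * c → ∀ r ∈ R, c * r * c⁻¹ ∈ R := by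
    intro c hc
    have hcz : MulAut.conj c z = z := by
      rw [MulAut.conj_apply, hc]; group
    have hPc : ∀ x ∈ P, c * x * c⁻¹ ∈ P := fun x hx =>
      map_P h.perf h.cen h.der (MulAut.conj c) hcz hx
    have hPc' : ∀ x ∈ P, c⁻¹ * x * c ∈ P := by
      intro x hx
      have hcz' : MulAut.conj c⁻¹ z = z := by
        rw [MulAut.conj_apply, inv_inv, mul_assoc, ← hc]; group
      have := map_P h.perf h.cen h.der (MulAut.conj c⁻¹) hcz' hx
      rwa [MulAut.conj_apply, inv_inv] at this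
    have h1 : R.map (MulAut.conj c).toMonoidHom ≤ R := by
      apply h.Rmax
      · rintro _ ⟨r, hr, rfl⟩
        exact hPc r (h.RP hr)
      · exact h.R2.map _
      · rintro x hx _ ⟨r, hr, rfl⟩
        refine ⟨c⁻¹ * x * c * r * (c⁻¹ * x * c)⁻¹, h.Rn _ (hPc' x hx) r hr, ?_⟩
        show c * (c⁻¹ * x * c * r * (c⁻¹ * x * c)⁻¹) * c⁻¹ = x * (c * r * c⁻¹) * x⁻¹
        group
    intro r hr
    exact h1 ⟨r, hr, rfl⟩
  have hnorm : (S : Subgroup K) ≤ normalizer (R : Set K) := by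
    intro s hs
    rw [mem_normalizer_iff]
    intro r
    constructor
    · exact fun hr => hn s (hS s hs) r hr
    · intro hr
      have h1 := hn s⁻¹ (hS _ (inv_mem hs)) _ hr
      have e : s⁻¹ * (s * r * s⁻¹) * s⁻¹⁻¹ = r := by group
      rwa [e] at h1
  have h2 : IsPGroup 2 ((S : Subgroup K) ⊔ R : Subgroup K) :=
    S.isPGroup'.to_sup_of_normal_right' h.R2 hnorm
  have h3 := S.is_maximal' h2 le_sup_left
  exact (le_sup_right : R ≤ (S : Subgroup K) ⊔ R).trans h3.le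

theorem basic [Finite K] (h : SheetX z P R) : Basic z P where
  zz := h.zz
  z1 := h.z1
  syl := h.syl
  zP := h.zP
  cen := h.cen
  perf := h.perf
  der := h.der
  out := h.out
  schreier := h.schreier
  sylAut := by
    intro S hS α hα2 hα
    have hR := h.R_le_sylow S hS
    have hαz : α z = z := hα z (hR h.zR)
    obtain ⟨r, -, hr⟩ := h.aut α hα2 hαz (by
      intro x hx
      apply h.cR _ (P.mul_mem (P.inv_mem hx) (map_P h.perf h.cen h.der α hαz hx))
      intro r hr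
      -- `α x r (α x)⁻¹ = α (x r x⁻¹) = x r x⁻¹`
      have h1 : α x * r * (α x)⁻¹ = x * r * x⁻¹ := by
        have h2 : α (x * r * x⁻¹) = x * r * x⁻¹ := hα _ (hR (h.Rn x hx r hr))
        rw [map_mul, map_mul, map_inv, hα r (hR hr)] at h2
        exact h2
      calc x⁻¹ * α x * r = x⁻¹ * (α x * r * (α x)⁻¹) * α x := by group
        _ = x⁻¹ * (x * r * x⁻¹) * α x := by rw [h1]
        _ = r * (x⁻¹ * α x) := by group)
    exact ⟨r, hr⟩

end SheetX

end Cfsg.Agent.OddHalf.D8.JTwo.Sheet
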